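import Cfsg.Agent.Lib.Components.CommonDivisor.Link

/-!
Distance two in the common divisor graph on `cd(G|N)`.
-/

set_option autoImplicit false
set_option linter.all false

namespace Cfsg.Agent.GenA.RelDegree

open Cfsg.Agent.Characters Cfsg.Agent.CharTheory Subgroup Cfsg.Agent.Components.CommonDivisor

universe u

variable {G : Type u} [Group G] (N : Subgroup G) [hN : N.Normal]

theorem one_lt_gcd {a b k : ℕ} (ha : 0 < a) (hk : k ≠ 1) (hka : k ∣ a) (hkb : k ∣ b) :
    1 < Nat.gcd a b := by
  have h1 : k ∣ Nat.gcd a b := Nat.dvd_gcd hka hkb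
  have h2 : Nat.gcd a b ≠ 1 := fun h => hk (Nat.eq_one_of_dvd_one (h ▸ h1))
  have h4 := Nat.gcd_pos_of_pos_left b ha
  omega

/-- A common divisor, or a common neighbour. -/
def Near (a b : ℕ) : Prop :=
  1 < Nat.gcd a b ∨ ∃ z ∈ Cfsg.relCharDegrees N, 1 < Nat.gcd a z ∧ 1 < Nat.gcd z b

theorem Near.symm {a b : ℕ} (h : Near N a b) : Near N b a := by
  rcases h with h | ⟨z, hz, h1, h2⟩
  · exact Or.inl (by rwa [Nat.gcd_comm])
  · exact Or.inr ⟨z, hz, by rwa [Nat.gcd_comm], by rwa [Nat.gcd_comm]⟩

theorem Near.conn {a b : ℕ} (ha : a ∈ Cfsg.relCharDegrees N) (hb : b ∈ Cfsg.relCharDegrees N)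
    (h : Near N a b) : Conn N a b := by
  rcases h with h | ⟨z, hz, h1, h2⟩
  · exact link N ha hb h
  · exact (link N ha hz h1).trans N (link N hz hb h2)

/-- A degree prime to `r` is within distance two of all multiples of the size of the orbit of a
moved linear character of exponent `r`. -/
theorem near_moved [Fintype G] [Fintype N] (hNG : N ≤ commutator G) {r : ℕ} (hr : r.Prime)
    {f : N →* ℂˣ} (hfp : f ^ r = 1) (hT : (inertia N (fn f)).index ≠ 1) {χ : G → ℂ} {θ : N → ℂ}
    {n e d b₀ : ℕ} (ho : Over N χ θ n e d) (hra : ¬ r ∣ n)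
    (hb₀ : b₀ ∈ Cfsg.relCharDegrees N) (htb : (inertia N (fn f)).index ∣ b₀)
    (hco : r.Coprime (inertia N (fn f)).index ∨ d ≠ 1) : Near N n b₀ := by
  classical
  set T := inertia N (fn f) with hTdef
  set t := T.index with htdef
  by_cases hat : n.Coprime t
  swap
  · exact Or.inl (one_lt_gcd (deg_pos N ho) hat (Nat.gcd_dvd_left _ _)
      ((Nat.gcd_dvd_right _ _).trans htb))
  have ha := ho.mem_relCharDegrees
  set I := inertia N θ with hIdef
  set o := I.index with hodef
  have hnd : d ∣ n := by rw [ho.eq_deg]; exact dvd_mul_left _ _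
  have hon : o ∣ n := by rw [ho.eq_deg]; exact (dvd_mul_left _ _).mul_right _
  have hrd : r.Coprime d := hr.coprime_iff_not_dvd.mpr fun h => hra (h.trans hnd)
  have hot : o.Coprime t := hat.coprime_dvd_left hon
  set J := I ⊓ T with hJdef
  have hJ : J.index = o * t := le_antisymm index_inf_le
    (Nat.le_of_dvd (Nat.pos_of_ne_zero index_ne_zero_of_finite)
      (hot.mul_dvd_of_dvd_of_dvd (index_dvd_of_le inf_le_left) (index_dvd_of_le inf_le_right)))
  -- all pairs of conjugates are conjugate
  set Oθ := Set.range fun g => Clifford.conjBy N g θ with hOθ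
  set Of := Set.range fun g => Clifford.conjBy N g (fn f) with hOf
  have hpair : ∀ g₁ g₂ : G, ∃ k : G, Clifford.conjBy N k θ = Clifford.conjBy N g₁ θ ∧
      Clifford.conjBy N k (fn f) = Clifford.conjBy N g₂ (fn f) := by
    intro g₁ g₂
    have hr1 : Nat.card (Set.range fun g =>
        (Clifford.conjBy N g θ, Clifford.conjBy N g (fn f))) = o * t := by
      rw [← hJ]
      refine card_range_eq_index _ _ fun g h => ?_
      rw [Prod.mk.injEq, conjBy_eq_iff, conjBy_eq_iff, hJdef, Subgroup.mem_inf]
    have hsub : (Set.range fun g => (Clifford.conjBy N g θ, Clifford.conjBy N g (fn f))) ⊆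
        Oθ ×ˢ Of := by rintro _ ⟨g, rfl⟩; exact ⟨⟨g, rfl⟩, g, rfl⟩
    have heq := Set.eq_of_subset_of_ncard_le hsub (by
      rw [Set.ncard_prod, ← Nat.card_coe_set_eq, ← Nat.card_coe_set_eq, ← Nat.card_coe_set_eq,
        hr1, card_orbit, card_orbit])
      ((Set.finite_range _).prod (Set.finite_range _))
    obtain ⟨k, hk⟩ := heq.ge (show (Clifford.conjBy N g₁ θ, Clifford.conjBy N g₂ (fn f)) ∈ Oθ ×ˢ Of
      from ⟨⟨g₁, rfl⟩, g₂, rfl⟩)
    simp only [Prod.mk.injEq] at hk
    exact ⟨k, hk⟩
  set φ := fn f * θ with hφdef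
  have hφirr := isIrr_twist N f ho.irrθ
  have hφd : φ 1 = (d : ℂ) := by
    rw [hφdef, Pi.mul_apply, ho.degθ]; simp [fn]
  have hφ1 : φ ≠ fun _ => 1 := by
    intro he
    have hIT : I = T := by
      have hmul : ∀ k, fn f k * θ k = 1 := fun k => congrFun he k
      ext g
      rw [mem_inertia, mem_inertia]
      have hm2 : ∀ k, Clifford.conjBy N g (fn f) k * Clifford.conjBy N g θ k = 1 := fun k =>
        congrFun (congrArg (Clifford.conjBy N g) he) k
      constructor
      · intro h
        funext k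
        have h1 := hm2 k
        rw [h] at h1
        exact mul_right_cancel₀ (right_ne_zero_of_mul_eq_one (hmul k)) (h1.trans (hmul k).symm)
      · intro h
        funext k
        have h1 := hm2 k
        rw [h] at h1
        exact mul_left_cancel₀ (fn_ne_zero f k) (h1.trans (hmul k).symm)
    have h1 : o = t := by rw [hodef, hIT]
    rw [h1, Nat.coprime_self] at hot
    exact hT hot
  obtain ⟨ψ, b, m, d', hψ⟩ := exists_over N hφirr hφ1
  have hd' : d' = d := by
    have h := hψ.degθ.symm.trans hφd
    exact_mod_cast h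
  rw [hd'] at hψ
  set Sf := inertia N φ with hSfdef
  set o' := Sf.index with ho'def
  have hJS : J ≤ Sf := by
    rintro g ⟨hg1, hg2⟩
    rw [mem_inertia, hφdef, conjBy_mul, (mem_inertia N).mp hg1, (mem_inertia N).mp hg2]
  have ho't : o' ∣ o * t := hJ ▸ index_dvd_of_le hJS
  have hST : Sf ⊓ T ≤ J := by
    rintro g ⟨hg1, hg2⟩
    refine ⟨(mem_inertia N).mpr ?_, hg2⟩
    have h := (mem_inertia N).mp hg1
    rw [hφdef, conjBy_mul, (mem_inertia N).mp hg2] at h
    exact funext fun k => mul_left_cancel₀ (fn_ne_zero f k) (congrFun h k)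
  have hSI : Sf ⊓ I ≤ J := by
    rintro g ⟨hg1, hg2⟩
    refine ⟨hg2, (mem_inertia_fn N).mpr ?_⟩
    have h := (mem_inertia N).mp hg1
    rw [hφdef, conjBy_twist, (mem_inertia N).mp hg2] at h
    exact twist_cancel N (by rw [← ch_pow, hfp]; rfl) hfp (isCharacter_of_isIrr ho.irrθ)
      ho.degθ hrd h
  have hoo' : o ≤ o' := by
    have h1 : o * t ≤ o' * t := hJ ▸ (Nat.le_of_dvd (Nat.pos_of_ne_zero index_ne_zero_of_finite)
      (index_dvd_of_le hST)).trans index_inf_le
    exact Nat.le_of_mul_le_mul_right h1 (Nat.pos_of_ne_zero index_ne_zero_of_finite)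
  have hto' : t ≤ o' := by
    have h1 : o * t ≤ o' * o := hJ ▸ (Nat.le_of_dvd (Nat.pos_of_ne_zero index_ne_zero_of_finite)
      (index_dvd_of_le hSI)).trans index_inf_le
    rw [mul_comm o' o] at h1
    exact Nat.le_of_mul_le_mul_left h1 (Nat.pos_of_ne_zero index_ne_zero_of_finite)
  have hb := hψ.eq_deg
  -- products of conjugates are conjugates of the product
  have hprod : ∀ g₁ g₂ : G, Clifford.conjBy N g₂ (fn f) * Clifford.conjBy N g₁ θ ∈
      Set.range fun g => Clifford.conjBy N g φ := by
    intro g₁ g₂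
    obtain ⟨k, hk1, hk2⟩ := hpair g₁ g₂
    exact ⟨k, by show Clifford.conjBy N k φ = _; rw [hφdef, conjBy_mul, hk1, hk2]⟩
  by_cases hot' : o'.Coprime t
  · -- the translation argument on the orbit of `θ`
    exfalso
    have ho'o : o' = o :=
      le_antisymm (Nat.le_of_dvd (Nat.pos_of_ne_zero index_ne_zero_of_finite)
        (hot'.dvd_of_dvd_mul_right ho't)) hoo'
    haveI := finite_linear N
    set W := translators N Oθ ⊓ (powMonoidHom r : (N →* ℂˣ) →* (N →* ℂˣ)).ker with hW
    have hWdvd : Nat.card W ∣ o := by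
      rw [hodef, hIdef, ← card_orbit N θ]
      refine card_translators_dvd N (Set.finite_range _) W inf_le_left ?_
      rintro w hw η ⟨g, rfl⟩ he
      refine twist_cancel N (MonoidHom.mem_ker.mp hw.2) (one_pow_hom N r)
        (Clifford.isCharacter_conjBy N g (isCharacter_of_isIrr ho.irrθ))
        (d := d) (by rw [Clifford.conjBy_at_one, ho.degθ]) hrd ?_
      rw [he]; funext k; simp [fn]
    have himg : ∀ g : G, (fn (ch N g f) * ·) '' Oθ = Set.range fun x => Clifford.conjBy N x φ := by
      intro g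
      refine Set.eq_of_subset_of_ncard_le ?_ ?_ (Set.finite_range _)
      · rintro _ ⟨_, ⟨g₁, rfl⟩, rfl⟩
        show fn (ch N g f) * Clifford.conjBy N g₁ θ ∈ _
        rw [fn_ch]; exact hprod g₁ g
      · rw [ncard_fn_image N, ← Nat.card_coe_set_eq,
          ← Nat.card_coe_set_eq, card_orbit, card_orbit]
        exact ho'o.le
    obtain ⟨g, hg⟩ : ∃ g : G, g ∉ T := by
      by_contra! h
      exact hT (index_eq_one.mpr (eq_top_iff.mpr fun g _ => h g))
    have hwW : (ch N 1 f)⁻¹ * ch N g f ∈ W := by
      refine ⟨div_mem_translators N (himg g) (himg 1), MonoidHom.mem_ker.mpr ?_⟩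
      show ((ch N 1 f)⁻¹ * ch N g f) ^ r = 1
      have hr' : ∀ x, ch N x f ^ r = 1 := fun x => by rw [← ch_pow, hfp]; rfl
      rw [mul_pow_hom, inv_pow_hom N (hr' 1), hr' g]
      exact MonoidHom.ext fun k => by rw [MonoidHom.mul_apply]; simp
    have hw1 : (ch N 1 f)⁻¹ * ch N g f ≠ 1 := by
      intro h
      apply hg
      have h' : ch N 1 f = ch N g f := inv_mul_eq_one.mp (by exact h)
      rw [hTdef, mem_inertia, ← fn_ch, ← h', fn_ch, Clifford.conjBy_one]
    have hrW : r ∣ Nat.card W := by
      have h1 : orderOf ((ch N 1 f)⁻¹ * ch N g f) = r :=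
        (Nat.dvd_prime hr).mp (orderOf_dvd_of_pow_eq_one (MonoidHom.mem_ker.mp hwW.2))
          |>.resolve_left fun h => hw1 (orderOf_eq_one_iff.mp h)
      rw [← h1]
      exact W.orderOf_dvd_natCard hwW
    exact hra (hrW.trans (hWdvd.trans hon))
  · by_cases hcop : n.Coprime b
    swap
    · exact Or.inr ⟨b, hψ.mem_relCharDegrees, one_lt_gcd (deg_pos N ho) hcop (Nat.gcd_dvd_left _ _)
        (Nat.gcd_dvd_right _ _), one_lt_gcd (deg_pos N hψ) hot'
        ((Nat.gcd_dvd_left _ _).trans (by rw [hb]; exact (dvd_mul_left _ _).mul_right _))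
        ((Nat.gcd_dvd_right _ _).trans htb)⟩
    exfalso
    have hd1 : d = 1 := Nat.eq_one_of_dvd_coprimes hcop hnd (by rw [hb]; exact dvd_mul_left _ _)
    have hoo'c : o.Coprime o' := (hcop.coprime_dvd_left hon).coprime_dvd_right
      (by rw [hb]; exact (dvd_mul_left _ _).mul_right _)
    have ho't' : o' = t :=
      le_antisymm (Nat.le_of_dvd (Nat.pos_of_ne_zero index_ne_zero_of_finite)
        (hoo'c.symm.dvd_of_dvd_mul_left ho't)) hto'
    obtain ⟨h, rfl⟩ := exists_fn_eq N ho.irrθ (by rw [ho.degθ, hd1, Nat.cast_one])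
    have hrn : (r.Coprime n) := hr.coprime_iff_not_dvd.mpr hra
    by_cases ho1 : o = 1
    · have hh : ∀ x, ch N x h = h := fun x =>
        fn_injective N (by rw [fn_ch]; exact inertia_index_eq_one N ho1 x)
      have hhn : h ^ n = 1 := pow_hom_eq_one N fun k => ho.pow_eq_one N hNG fun x => by rw [hh]
      have hψ' : Over N ψ (fn (f * h)) b m d := by rw [fn_mul N]; exact hψ
      have hfr : ∀ (u : N →* ℂˣ), u ^ r = 1 → ∀ k, u (k ^ r) = 1 := fun u hu k => by
        rw [map_pow, ← MonoidHom.pow_apply, hu, MonoidHom.one_apply]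
      have hhb : h ^ (r * b) = 1 := pow_hom_eq_one N fun k => by
        have h1 := hψ'.pow_eq_one N hNG (n := k ^ r) fun x => by
          rw [ch_mul, hh, MonoidHom.mul_apply, MonoidHom.mul_apply,
            hfr _ (by rw [← ch_pow, hfp]; rfl), hfr f hfp]
        rw [MonoidHom.mul_apply, hfr f hfp, one_mul, map_pow, ← pow_mul] at h1
        exact h1
      exact ne_one_linear N ho (eq_one_of_pow N hhn hhb (hrn.symm.mul_right hcop))
    · -- the translation argument on the orbit of `f`
      haveI := finite_linear N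
      set W := translators N Of with hW
      have hWdvd : Nat.card W ∣ t := by
        rw [htdef, hTdef, ← card_orbit N (fn f)]
        refine card_translators_dvd N (Set.finite_range _) W le_rfl ?_
        rintro w hw η ⟨g, rfl⟩ he
        refine fn_injective N (funext fun k => ?_)
        have h1 : fn w k * fn (ch N g f) k = fn (ch N g f) k := by
          rw [fn_ch]; exact congrFun he k
        rw [mul_eq_right₀ (fn_ne_zero _ k)] at h1
        rw [h1]; simp [fn]
      have himg : ∀ g : G, (fn (ch N g h) * ·) '' Of =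
          Set.range fun x => Clifford.conjBy N x φ := by
        intro g
        refine Set.eq_of_subset_of_ncard_le ?_ ?_ (Set.finite_range _)
        · rintro _ ⟨_, ⟨g₂, rfl⟩, rfl⟩
          show fn (ch N g h) * Clifford.conjBy N g₂ (fn f) ∈ _
          rw [fn_ch, mul_comm]; exact hprod g g₂
        · rw [ncard_fn_image N, ← Nat.card_coe_set_eq,
            ← Nat.card_coe_set_eq, card_orbit, card_orbit]
          exact ho't'.le
      set s := Nat.card W with hs
      have hch1 : ch N 1 h = h := fn_injective N (by rw [fn_ch, Clifford.conjBy_one])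
      have hinvs : ∀ g : G, ch N g (h ^ s) = h ^ s := by
        intro g
        have h1 : ((ch N 1 h)⁻¹ * ch N g h) ^ s = 1 :=
          orderOf_dvd_iff_pow_eq_one.mp
            (W.orderOf_dvd_natCard (div_mem_translators N (himg g) (himg 1)))
        rw [hch1, mul_pow_hom] at h1
        rw [ch_pow]
        refine MonoidHom.ext fun k => ?_
        have h2 := congrArg (fun u : N →* ℂˣ => u k) h1
        simp only [MonoidHom.mul_apply, MonoidHom.pow_apply, MonoidHom.inv_apply,
          MonoidHom.one_apply, inv_pow] at h2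
        rw [MonoidHom.pow_apply, MonoidHom.pow_apply]
        exact (inv_mul_eq_one.mp h2).symm
      have hhs : h ^ (s * n) = 1 := pow_hom_eq_one N fun k => by
        have h1 := ho.pow_eq_one N hNG (n := k ^ s) fun x => by
          rw [map_pow, map_pow, ← MonoidHom.pow_apply, ← MonoidHom.pow_apply, ← ch_pow, hinvs]
        rw [map_pow, ← pow_mul] at h1
        exact h1
      have hsr : r.Coprime (s * n) := ((hco.resolve_right (not_not.mpr hd1)).coprime_dvd_right hWdvd).mul_right hrn
      -- so `Sf` fixes `h`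
      have hle : Sf ≤ I := by
        intro g hg
        rw [hIdef, mem_inertia_fn]
        have h1 : ch N g f * ch N g h = f * h := fn_injective N (by
          rw [fn_mul N, fn_mul N]
          have h2 := (mem_inertia N).mp hg
          rw [hφdef, conjBy_twist, ← fn_ch] at h2
          exact h2)
        have h2 := congrArg (· ^ r) h1
        have h3 : ch N g (h ^ r) = h ^ r := by
          have e : ch N g (1 : N →* ℂˣ) = 1 := rfl
          change (ch N g f * ch N g h) ^ r = (f * h) ^ r at h2
          rwa [mul_pow_hom, mul_pow_hom, ← ch_pow, ← ch_pow, hfp, e, one_mul_hom,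
            one_mul_hom] at h2
        refine MonoidHom.ext fun k => div_eq_one.mp
          (ExtendChar.eq_one_of_pow_coprime (m := r) (n := s * n) ?_ ?_ hsr)
        · rw [div_pow, ← MonoidHom.pow_apply, ← MonoidHom.pow_apply, ← ch_pow, h3, div_self']
        · rw [div_pow, ← MonoidHom.pow_apply, ← MonoidHom.pow_apply, ← ch_pow, hhs]
          simp [ch]
      apply ho1
      have h6 : o ∣ o' := index_dvd_of_le hle
      exact Nat.eq_one_of_dvd_coprimes hoo'c dvd_rfl h6

end Cfsg.Agent.GenA.RelDegree
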