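import Cfsg.Agent.GenA.RelDegree.Near
import Cfsg.Agent.Lib.Components.CommonDivisor.Main

/-!
When the common divisor graph on `cd(G|N)`, `N` solvable, is disconnected, one component is
complete and the other has diameter at most two.
-/

set_option autoImplicit false
set_option linter.all false

namespace Cfsg.Agent.GenA.RelDegree

open Cfsg.Agent.Characters Cfsg.Agent.CharTheory Subgroup Cfsg.Agent.Components.CommonDivisor

universe u

variable {G : Type u} [Group G] (N : Subgroup G) [hN : N.Normal]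

theorem eq_of_pow_coprime {u v : N →* ℂˣ} {r s : ℕ} (hu : u ^ r = 1) (hv : v ^ r = 1)
    (h : u ^ s = v ^ s) (hrs : r.Coprime s) : u = v := by
  refine MonoidHom.ext fun k => div_eq_one.mp (ExtendChar.eq_one_of_pow_coprime
    (m := r) (n := s) ?_ ?_ hrs)
  · rw [div_pow, ← MonoidHom.pow_apply, ← MonoidHom.pow_apply, hu, hv]; simp
  · rw [div_pow, ← MonoidHom.pow_apply, ← MonoidHom.pow_apply, h, div_self']

theorem ch_pow_eq_one {u : N →* ℂˣ} {k : ℕ} (g : G) (h : u ^ k = 1) : ch N g u ^ k = 1 := by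
  rw [← ch_pow, h]; rfl

theorem inertia_le_pow (f : N →* ℂˣ) (k : ℕ) : inertia N (fn f) ≤ inertia N (fn (f ^ k)) := by
  intro g hg
  rw [mem_inertia_fn] at hg ⊢
  rw [ch_pow, hg]

theorem deg_one [Fintype G] {χ : G → ℂ} {f : N →* ℂˣ} {a e d : ℕ} (h : Over N χ (fn f) a e d) :
    d = 1 := by
  have hd : (d : ℂ) = 1 := by rw [← h.degθ]; simp [fn]
  exact_mod_cast hd

theorem index_dvd_deg [Fintype G] {χ : G → ℂ} {θ : N → ℂ} {a e d : ℕ} (h : Over N χ θ a e d)
    {T : Subgroup G} (hT : inertia N θ ≤ T) : T.index ∣ a := by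
  rw [h.eq_deg]
  exact ((index_dvd_of_le hT).trans (dvd_mul_left _ _)).mul_right _

/-- An invariant power of a linear constituent has exponent the degree. -/
theorem pow_pow_eq_one [Fintype G] (hNG : N ≤ commutator G) {χ : G → ℂ} {f : N →* ℂˣ}
    {a e d : ℕ} (h : Over N χ (fn f) a e d) {k : ℕ} (hinv : ∀ x : G, ch N x (f ^ k) = f ^ k) :
    (f ^ k) ^ a = 1 := pow_hom_eq_one N fun n => by
  have h1 := h.pow_eq_one N hNG (n := n ^ k) fun x => by
    rw [map_pow, map_pow, ← MonoidHom.pow_apply, ← MonoidHom.pow_apply, ← ch_pow, hinv]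
  rw [map_pow] at h1
  rw [MonoidHom.pow_apply]
  exact h1

/-- `a` is the degree of a character over a linear character of exponent `P`. -/
def LVertex [Fintype G] (P a : ℕ) : Prop :=
  ∃ (χ : G → ℂ) (f : N →* ℂˣ) (e d : ℕ), f ^ P = 1 ∧ Over N χ (fn f) a e d

theorem exists_pow_prime {p k : ℕ} : ∀ {f : N →* ℂˣ}, f ^ (p ^ k) = 1 → f ≠ 1 →
    ∃ j, (f ^ j) ^ p = 1 ∧ f ^ j ≠ 1 := by
  induction k with
  | zero =>
    intro f h hne
    refine absurd (MonoidHom.ext fun n => ?_) hne
    have h1 := DFunLike.congr_fun h n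
    rwa [MonoidHom.pow_apply, pow_zero, pow_one] at h1
  | succ k ih =>
    intro f h hne
    by_cases hk : f ^ (p ^ k) = 1
    · exact ih hk hne
    · exact ⟨p ^ k, by rw [← pow_mul_hom N, ← pow_succ]; exact h, hk⟩

theorem lvertex_data [Fintype G] [Fintype N] (hNG : N ≤ commutator G) {p k a : ℕ} (hp : p.Prime)
    (h : LVertex N (p ^ k) a) :
    ∃ f : N →* ℂˣ, f ^ p = 1 ∧ f ≠ 1 ∧ (inertia N (fn f)).index ∣ a ∧
      ((inertia N (fn f)).index = 1 → p ∣ a) := by
  obtain ⟨χ, f, e, d, hf, ho⟩ := h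
  obtain ⟨j, hj, hj1⟩ := exists_pow_prime N hf (ne_one_linear N ho)
  refine ⟨f ^ j, hj, hj1, index_dvd_deg N ho (inertia_le_pow N f j), fun hT => ?_⟩
  by_contra hpa
  refine hj1 (eq_one_of_pow N hj (pow_pow_eq_one N hNG ho fun x => ?_)
    (hp.coprime_iff_not_dvd.mpr hpa))
  exact fn_injective N (by rw [fn_ch]; exact inertia_index_eq_one N hT x)

theorem exists_over_of_mem [Fintype G] [Fintype N] {a : ℕ} (ha : a ∈ Cfsg.relCharDegrees N) :
    ∃ χ θ e d, Over N χ θ a e d := by
  obtain ⟨χ, hne, hdeg⟩ := id ha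
  obtain ⟨n, hn0, hn⟩ := irr_one_pos χ.2
  have han : n = a := by rw [← hdeg, Cfsg.charDegree, hn]; simp
  subst han
  obtain ⟨θ, e, d, ho⟩ := exists_constituent_over N χ.2 hn hne
  exact ⟨_, θ, e, d, ho⟩

theorem LVertex.mem [Fintype G] {P a : ℕ} (h : LVertex N P a) : a ∈ Cfsg.relCharDegrees N := by
  obtain ⟨χ, f, e, d, -, ho⟩ := h
  exact ho.mem_relCharDegrees

/-- Degrees prime to `p` are near the `LVertex` degrees prime to `p`. -/
theorem near_lvertex [Fintype G] [Fintype N] (hNG : N ≤ commutator G) {p k a b : ℕ} (hp : p.Prime)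
    (ha : a ∈ Cfsg.relCharDegrees N) (hpa : ¬ p ∣ a) (hb : LVertex N (p ^ k) b) (hpb : ¬ p ∣ b) :
    Near N a b := by
  obtain ⟨χ, θ, e, d, ho⟩ := exists_over_of_mem N ha
  obtain ⟨f, hfp, hf1, htb, ht1⟩ := lvertex_data N hNG hp hb
  exact near_moved N hNG hp hfp (fun h => hpb (ht1 h)) ho hpa (LVertex.mem N hb) htb
    (Or.inl (hp.coprime_iff_not_dvd.mpr fun h => hpb (h.trans htb)))

/-- If some `LVertex` degree is divisible by `p`, the other degrees prime to `p` are linked to
it. -/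
theorem conn_lvertex [Fintype G] [Fintype N] (hNG : N ≤ commutator G) {p k Q a b : ℕ}
    (hp : p.Prime) (hQ : ∀ f : N →* ℂˣ, f ^ (p ^ k * Q) = 1) (hpQ : p.Coprime Q)
    (ha : a ∈ Cfsg.relCharDegrees N) (hpa : ¬ p ∣ a) (hLa : ¬ LVertex N (p ^ k) a)
    (hb : LVertex N (p ^ k) b) (hpb : p ∣ b) : Conn N a b := by
  obtain ⟨χ, θ, e, d, ho⟩ := exists_over_of_mem N ha
  obtain ⟨f, hfp, hf1, htb, ht1⟩ := lvertex_data N hNG hp hb
  have hbm := LVertex.mem N hb
  by_cases hT : (inertia N (fn f)).index = 1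
  · obtain ⟨a', ha', hc⟩ := conn_invariant N hNG hp
      (⟨hfp, hf1, by rw [hT]; exact Nat.coprime_one_right p⟩ : Valid N p f) hT ha hpa
    obtain ⟨-, ha'', -⟩ := id hc
    exact Conn.trans N hc (link_of_dvd N ha'' hbm hp.ne_one ha' hpb)
  by_cases hd : d = 1
  swap
  · exact Near.conn N ha hbm (near_moved N hNG hp hfp hT ho hpa hbm htb (Or.inr hd))
  obtain ⟨h, rfl⟩ := exists_fn_eq N ho.irrθ (by rw [ho.degθ, hd, Nat.cast_one])
  set g := h ^ (p ^ k) with hgdef
  have hg1 : g ≠ 1 := fun hh => hLa ⟨_, h, e, d, hh, ho⟩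
  have hgQ : g ^ Q = 1 := by rw [hgdef, ← pow_mul_hom N]; exact hQ h
  have hPQ : (p ^ k).Coprime Q := hpQ.pow_left k
  set u := f * g with hudef
  have huQ : u ^ Q = f ^ Q := by rw [hudef, mul_pow_hom, hgQ]; exact mul_one (f ^ Q)
  have hu1 : u ≠ 1 := by
    intro hh
    refine hf1 (eq_one_of_pow N hfp (n := Q) ?_ hpQ)
    rw [← huQ, hh, one_pow_hom]
  obtain ⟨c, hc, huc⟩ := exists_multiple N hu1
  obtain ⟨ψ, c', m, d', hψ⟩ := exists_over N (Cfsg.Agent.Characters.isIrrCharacter_linear u)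
    (fun he => hu1 (fn_injective N (he.trans (funext fun n => by simp [fn]))))
  have hcm := hψ.mem_relCharDegrees
  -- `u` determines `f` and the power `g'` of `g`
  have hfix : ∀ x ∈ inertia N (fn u), x ∈ inertia N (fn f) := by
    intro x hx
    rw [mem_inertia_fn] at hx ⊢
    refine eq_of_pow_coprime N (ch_pow_eq_one N x hfp) hfp ?_ hpQ
    rw [← ch_pow, ← huQ, ch_pow, hx]
  have hgix : ∀ x ∈ inertia N (fn u), x ∈ inertia N (fn g) := by
    intro x hx
    have hxf := hfix x hx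
    rw [mem_inertia_fn] at hx hxf ⊢
    rw [hudef, ch_mul, hxf] at hx
    exact mul_left_cancel hx
  have hcb : 1 < Nat.gcd c' b := one_lt_gcd (deg_pos N hψ) hT (index_dvd_deg N hψ hfix) htb
  have hac : 1 < Nat.gcd a c' := by
    by_cases hTg : (inertia N (fn g)).index = 1
    swap
    · exact one_lt_gcd (deg_pos N ho) hTg (index_dvd_deg N ho (inertia_le_pow N h _))
        (index_dvd_deg N hψ hgix)
    have hginv : ∀ x : G, ch N x g = g := fun x =>
      fn_injective N (by rw [fn_ch]; exact inertia_index_eq_one N hTg x)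
    have hga : g ^ a = 1 := pow_pow_eq_one N hNG ho hginv
    by_contra hn
    have hac : a.Coprime c' := by
      have := Nat.gcd_pos_of_pos_left c' (deg_pos N ho)
      show Nat.gcd a c' = 1
      omega
    have hup : u ^ p = g ^ p := by rw [hudef, mul_pow_hom, hfp]; exact one_mul (g ^ p)
    have hgc : (g ^ p) ^ c' = 1 := by
      rw [← hup]
      refine pow_pow_eq_one N hNG hψ fun x => ?_
      rw [hup, ch_pow, hginv]
    rw [← pow_mul_hom N] at hgc
    exact hg1 (eq_one_of_pow N hga hgc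
      ((hp.coprime_iff_not_dvd.mpr hpa).symm.mul_right hac))
  exact Conn.trans N (link N ha hcm hac) (link N hcm hbm hcb)

/-- One component is complete and the other has diameter at most two. -/
def Shape : Prop :=
  ∃ a₀ : ℕ, a₀ ∈ Cfsg.relCharDegrees N ∧
    (∀ b c : ℕ, Conn N a₀ b → Conn N a₀ c → b ≠ c → 1 < Nat.gcd b c) ∧
    ∀ b ∈ Cfsg.relCharDegrees N, ∀ c ∈ Cfsg.relCharDegrees N,
      ¬ Conn N a₀ b → ¬ Conn N a₀ c → Near N b c

theorem conn_refl {a : ℕ} (ha : a ∈ Cfsg.relCharDegrees N) : Conn N a a :=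
  ⟨ha, ha, SimpleGraph.Reachable.refl _⟩

theorem relCharDegrees_mono {M : Subgroup G} (h : M ≤ N) :
    Cfsg.relCharDegrees M ⊆ Cfsg.relCharDegrees N := by
  rintro d ⟨χ, ⟨x, hx, hne⟩, hd⟩
  exact ⟨χ, ⟨x, h hx, hne⟩, hd⟩

theorem conn_mono {M : Subgroup G} (h : M ≤ N) {a b : ℕ} (hc : Conn M a b) : Conn N a b := by
  obtain ⟨ha, hb, hr⟩ := hc
  exact ⟨relCharDegrees_mono N h ha, relCharDegrees_mono N h hb,
    hr.map (⟨fun x => ⟨x.1, relCharDegrees_mono N h x.2⟩, fun {x y} hxy => hxy⟩ :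
      Cfsg.commonDivisorGraph.induce (Cfsg.relCharDegrees M) →g
      Cfsg.commonDivisorGraph.induce (Cfsg.relCharDegrees N))⟩

theorem Near.mono {M : Subgroup G} (h : M ≤ N) {a b : ℕ} (hn : Near M a b) : Near N a b := by
  rcases hn with hn | ⟨z, hz, h1, h2⟩
  · exact Or.inl hn
  · exact Or.inr ⟨z, relCharDegrees_mono N h hz, h1, h2⟩

/-- A character all of whose values on `n` and conjugates sum to the maximum takes the maximum. -/
theorem value_of_sum_eq [Fintype G] [Fintype N] {θ : N → ℂ} (hθ : Cfsg.IsCharacter N θ) {d : ℕ}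
    (hd : θ 1 = (d : ℂ)) {n : N}
    (h : ∑ x : G, Clifford.conjBy N x θ n = (Nat.card G : ℂ) * d) : θ n = θ 1 := by
  have hle : ∀ x : G, ‖Clifford.conjBy N x θ n‖ ≤ (d : ℝ) := by
    intro x
    have h1 := char_norm_le (Clifford.isCharacter_conjBy N x hθ) n
    rwa [Clifford.conjBy_at_one, hd, Complex.norm_natCast] at h1
  have hre : ∀ x : G, (Clifford.conjBy N x θ n).re = (d : ℝ) := by
    have h1 := congrArg Complex.re h
    rw [Complex.re_sum, Complex.mul_re, Complex.natCast_re, Complex.natCast_re, Complex.natCast_im,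
      Complex.natCast_im, mul_zero, sub_zero] at h1
    have h2 : ∑ x : G, (Clifford.conjBy N x θ n).re = ∑ x : G, (d : ℝ) := by
      rw [h1, Finset.sum_const, Finset.card_univ, nsmul_eq_mul, Nat.card_eq_fintype_card]
    exact fun x => (Finset.sum_eq_sum_iff_of_le
      (fun y _ => (Complex.re_le_norm _).trans (hle y))).mp h2 x (Finset.mem_univ x)
  have h1 := hre 1
  have h2 := hle 1
  rw [Clifford.conjBy_one] at h1 h2
  rw [hd]
  refine Complex.ext (by rw [h1, Complex.natCast_re]) ?_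
  rw [Complex.natCast_im]
  have h3 : (θ n).re ^ 2 + (θ n).im ^ 2 ≤ (d : ℝ) ^ 2 := by
    have h4 := pow_le_pow_left₀ (norm_nonneg _) h2 2
    rw [Complex.sq_norm, Complex.normSq_apply] at h4
    linarith [sq (θ n).re, sq (θ n).im]
  rw [h1] at h3
  exact pow_eq_zero_iff two_ne_zero |>.mp (le_antisymm (by linarith) (sq_nonneg _))

/-- The intersection of the kernels of the linear characters of exponent `P`. -/
def powKer (P : ℕ) : Subgroup G :=
  (⨅ f : {f : N →* ℂˣ // f ^ P = 1}, f.1.ker).map N.subtype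

theorem mem_powKer {P : ℕ} {n : N} :
    (n : G) ∈ powKer N P ↔ ∀ f : N →* ℂˣ, f ^ P = 1 → f n = 1 := by
  rw [powKer]
  constructor
  · rintro ⟨m, hm, he⟩ f hf
    obtain rfl : m = n := Subtype.ext he
    have := Subgroup.mem_iInf.mp hm ⟨f, hf⟩
    exact this
  · intro h
    exact ⟨n, Subgroup.mem_iInf.mpr fun f => h f.1 f.2, rfl⟩

theorem powKer_le (P : ℕ) : powKer N P ≤ N := Subgroup.map_subtype_le _

theorem powKer_normal (P : ℕ) : (powKer N P).Normal := by
  refine ⟨fun x hx g => ?_⟩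
  have hxN := powKer_le N P hx
  have h := (mem_powKer N (n := ⟨x, hxN⟩)).mp hx
  refine (mem_powKer N (n := ⟨g * x * g⁻¹, hN.conj_mem x hxN g⟩)).mpr fun f hf => ?_
  have h1 := h (ch N g f) (ch_pow_eq_one N g hf)
  rw [show (⟨g * x * g⁻¹, hN.conj_mem x hxN g⟩ : N) = MulAut.conjNormal g ⟨x, hxN⟩ from
    Subtype.ext (by simp)]
  exact h1

/-- A vertex is either over a linear character of exponent `P` or in `cd(G|M)`. -/
theorem lvertex_or_mem [Fintype G] [Fintype N] {P a : ℕ} (ha : a ∈ Cfsg.relCharDegrees N) :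
    LVertex N P a ∨ a ∈ Cfsg.relCharDegrees (powKer N P) := by
  by_cases hM : a ∈ Cfsg.relCharDegrees (powKer N P)
  · exact Or.inr hM
  left
  obtain ⟨χ, θ, e, d, ho⟩ := exists_over_of_mem N ha
  have hdeg : Cfsg.charDegree χ = a := by rw [Cfsg.charDegree, ho.deg]; simp
  have hall : ∀ x ∈ powKer N P, χ x = χ 1 := by
    by_contra! h
    exact hM ⟨⟨χ, ho.irr⟩, h, hdeg⟩
  have ha0 := deg_pos N ho
  have hθ : ∀ n : N, (n : G) ∈ powKer N P → θ n = θ 1 := by
    intro n hn
    refine value_of_sum_eq N (isCharacter_of_isIrr ho.irrθ) ho.degθ ?_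
    have h1 := congrFun ho.restrict n
    simp only [Pi.smul_apply, Finset.sum_apply, smul_eq_mul] at h1
    rw [hall _ hn, ho.deg, ho.eq_deg] at h1
    have he : (e : ℂ) ≠ 0 := by
      rintro h
      rw [ho.eq_deg, Nat.cast_eq_zero.mp h, zero_mul, zero_mul] at ha0
      exact lt_irrefl _ ha0
    refine mul_left_cancel₀ he ?_
    rw [← h1, ← (inertia N θ).card_mul_index]
    push_cast; ring
  set K := (powKer N P).subgroupOf N with hK
  haveI := powKer_normal N P
  obtain ⟨ψ, hψc, hψ, hψi⟩ := exists_deflate_quotient K (isCharacter_of_isIrr ho.irrθ)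
    (fun x hx => hθ x hx)
  have hcomm : ∀ x y : N ⧸ K, x * y = y * x := by
    intro x y
    induction x using QuotientGroup.induction_on with
    | H x =>
      induction y using QuotientGroup.induction_on with
      | H y =>
        rw [← QuotientGroup.mk_mul, ← QuotientGroup.mk_mul, QuotientGroup.eq, hK,
          Subgroup.mem_subgroupOf, mem_powKer]
        intro f _
        rw [map_mul, map_inv, map_mul, map_mul, mul_comm (f x) (f y), inv_mul_cancel]
  have h1 : θ 1 = 1 := by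
    rw [← hψ 1, QuotientGroup.mk_one]
    exact irr_degree_one_of_comm hcomm (hψi ho.irrθ)
  obtain ⟨f, rfl⟩ := exists_fn_eq N ho.irrθ h1
  refine ⟨χ, f, e, d, pow_hom_eq_one N fun n => ?_, ho⟩
  have h2 := hθ (n ^ P) ((mem_powKer N).mpr fun g hg => by
    rw [map_pow, ← MonoidHom.pow_apply, hg]; rfl)
  rw [← map_pow]
  exact Units.ext (h2.trans h1)

theorem preconnected_of_conn (h : ∀ a ∈ Cfsg.relCharDegrees N, ∀ b ∈ Cfsg.relCharDegrees N,
    Conn N a b) : (Cfsg.commonDivisorGraph.induce (Cfsg.relCharDegrees N)).Preconnected :=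
  fun a b => (h a.1 a.2 b.1 b.2).2.2

/-- The two components of a disconnected relative common divisor graph. -/
theorem shape_aux [Fintype G] : ∀ (m : ℕ) (N : Subgroup G) [N.Normal] [Group.IsSolvable N],
    Nat.card N ≤ m → N ≤ commutator G →
    ¬ (Cfsg.commonDivisorGraph.induce (Cfsg.relCharDegrees N)).Preconnected → Shape N := by
  intro m
  induction m with
  | zero =>
    intro N _ _ h
    have := Nat.card_pos (α := N)
    omega
  | succ m ih =>
    intro N _ _ hcard hNG hdisc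
    classical
    haveI := Fintype.ofFinite N
    have hbot : N ≠ ⊥ := by
      rintro rfl
      exact hdisc (preconnected_of_conn _ fun a ha => by
        obtain ⟨χ, ⟨x, hx, hne⟩, -⟩ := ha
        rw [Subgroup.mem_bot] at hx
        exact absurd (by rw [hx]) hne)
    haveI := (Subgroup.nontrivial_iff_ne_bot N).mpr hbot
    have hN' : ⁅N, N⁆ < N := by
      refine lt_of_le_of_ne (commutator_le_self N) fun h => ?_
      have h1 : commutator N ≠ ⊤ := (Group.IsSolvable.commutator_lt_top_of_nontrivial N).ne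
      apply h1
      rw [← Subgroup.map_subtype_inj, Subgroup.map_subtype_commutator, h, ← MonoidHom.range_eq_map,
        N.range_subtype]
    obtain ⟨p, hp, hpm⟩ := Nat.exists_prime_and_dvd (fun h => hN'.not_ge (relIndex_eq_one.mp h))
    obtain ⟨f₀, hf₀⟩ := exists_valid N hp hpm
    haveI := finite_linear N
    set C := Nat.card (N →* ℂˣ) with hC
    set k := C.factorization p with hk
    set Q := C / p ^ k with hQdef
    have hCQ : p ^ k * Q = C := Nat.ordProj_mul_ordCompl_eq_self C p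
    have hQ : ∀ f : N →* ℂˣ, f ^ (p ^ k * Q) = 1 := fun f => by rw [hCQ]; exact @pow_card_eq_one' (N →* ℂˣ) _ f
    have hpQ : p.Coprime Q := Nat.coprime_ordCompl hp Nat.card_pos.ne'
    set M := powKer N (p ^ k) with hM
    have hMN : M < N := by
      refine lt_of_le_of_ne (powKer_le N _) fun h => hf₀.ne (MonoidHom.ext fun n => ?_)
      refine (mem_powKer N).mp (show (n : G) ∈ powKer N (p ^ k) by rw [← hM, h]; exact n.2) f₀ ?_
      have hk1 : 1 ≤ k := by
        refine (hp.pow_dvd_iff_le_factorization Nat.card_pos.ne').mp ?_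
        haveI := Fact.mk hp
        have ho : orderOf f₀ = p := orderOf_eq_prime hf₀.pow (fun h => hf₀.ne h)
        rw [pow_one, ← ho]
        exact orderOf_dvd_natCard f₀
      rw [← Nat.sub_add_cancel hk1, pow_succ', pow_mul_hom N, hf₀.pow, one_pow_hom]
    have hA : ∀ a ∈ Cfsg.relCharDegrees N, ∀ b ∈ Cfsg.relCharDegrees N,
        p ∣ a → p ∣ b → 1 < Nat.gcd a b := fun a ha b _ hpa hpb => by
      obtain ⟨χ, θ, e, d, ho⟩ := exists_over_of_mem N ha
      exact one_lt_gcd (deg_pos N ho) hp.ne_one hpa hpb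
    have hsame : ∀ a ∈ Cfsg.relCharDegrees N, ∀ b ∈ Cfsg.relCharDegrees N,
        (p ∣ a ↔ p ∣ b) → Conn N a b := fun a ha b hb h => conn_same N hNG hp hpm ha hb h
    have hsep : ∀ a ∈ Cfsg.relCharDegrees N, ∀ b ∈ Cfsg.relCharDegrees N,
        p ∣ a → ¬ p ∣ b → ¬ Conn N a b := by
      intro a ha b hb hpa hpb hc
      refine hdisc (preconnected_of_conn N fun x hx y hy => ?_)
      have key : ∀ z ∈ Cfsg.relCharDegrees N, Conn N a z := fun z hz => by
        by_cases hpz : p ∣ z
        · exact hsame a ha z hz (iff_of_true hpa hpz)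
        · exact hc.trans N (hsame b hb z hz (iff_of_false hpb hpz))
      exact ((key x hx).symm N).trans N (key y hy)
    obtain ⟨a₀, ha₀, hpa₀⟩ : ∃ a ∈ Cfsg.relCharDegrees N, p ∣ a := by
      by_contra! h
      exact hdisc (preconnected_of_conn N fun x hx y hy =>
        hsame x hx y hy (iff_of_false (h x hx) (h y hy)))
    refine ⟨a₀, ha₀, fun b c hb hc _ => ?_, fun b hb c hc hnb hnc => ?_⟩
    · have hpb : p ∣ b := by_contra fun h => hsep a₀ ha₀ b hb.2.1 hpa₀ h hb
      have hpc : p ∣ c := by_contra fun h => hsep a₀ ha₀ c hc.2.1 hpa₀ h hc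
      exact hA b hb.2.1 c hc.2.1 hpb hpc
    have hpb : ¬ p ∣ b := fun h => hnb (hsame a₀ ha₀ b hb (iff_of_true hpa₀ h))
    have hpc : ¬ p ∣ c := fun h => hnc (hsame a₀ ha₀ c hc (iff_of_true hpa₀ h))
    by_cases hLc : LVertex N (p ^ k) c
    · exact near_lvertex N hNG hp hb hpb hLc hpc
    by_cases hLb : LVertex N (p ^ k) b
    · exact Near.symm N (near_lvertex N hNG hp hc hpc hLb hpb)
    -- both degrees belong to `cd(G|M)`
    have hbM := (lvertex_or_mem N hb).resolve_left hLb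
    have hcM := (lvertex_or_mem N hc).resolve_left hLc
    rcases lvertex_or_mem (P := p ^ k) N ha₀ with hL | haM
    · exact absurd (conn_lvertex N hNG hp hQ hpQ hb hpb hLb hL hpa₀)
        fun h => hnb (h.symm N)
    haveI := powKer_normal N (p ^ k)
    haveI : Group.IsSolvable M :=
      solvable_of_solvable_injective (Subgroup.inclusion_injective hMN.le)
    have hab : ¬ Conn M a₀ b := fun h => hnb (conn_mono N hMN.le h)
    have hac : ¬ Conn M a₀ c := fun h => hnc (conn_mono N hMN.le h)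
    obtain ⟨a₁, ha₁, hcl, hout⟩ := ih M (by
      have := Set.ncard_lt_ncard (SetLike.coe_ssubset_coe.mpr hMN) (Set.toFinite (N : Set G))
      rw [← Nat.card_coe_set_eq, ← Nat.card_coe_set_eq] at this
      simp only [SetLike.coe_sort_coe] at this
      omega) (hMN.le.trans hNG) (fun h => hab ⟨haM, hbM, h _ _⟩)
    by_cases h0 : Conn M a₁ a₀
    · have h1 : ¬ Conn M a₁ b := fun h => hab ((h0.symm M).trans M h)
      have h2 : ¬ Conn M a₁ c := fun h => hac ((h0.symm M).trans M h)
      exact Near.mono N hMN.le (hout b hbM c hcM h1 h2)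
    · have h1 : Conn M a₁ b := by
        by_contra h
        exact hab (Near.conn M haM hbM (hout a₀ haM b hbM h0 h))
      have h2 : Conn M a₁ c := by
        by_contra h
        exact hac (Near.conn M haM hcM (hout a₀ haM c hcM h0 h))
      by_cases hbc : b = c
      · subst hbc
        obtain ⟨χ, θ, e, d, ho⟩ := exists_over_of_mem N hb
        left
        rw [Nat.gcd_self]
        have := linear_degree_ne_one N hNG ho
        have := deg_pos N ho
        omega
      · exact Or.inl (hcl b c h1 h2 hbc)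

/-- Degrees within distance two are adjacent or have a common neighbour. -/
theorem Near.adj_or_common {b c : ↥(Cfsg.relCharDegrees N)} (hbc : b ≠ c)
    (h : Near N b.1 c.1) :
    (Cfsg.commonDivisorGraph.induce (Cfsg.relCharDegrees N)).Adj b c ∨
      ∃ d : ↥(Cfsg.relCharDegrees N),
        (Cfsg.commonDivisorGraph.induce (Cfsg.relCharDegrees N)).Adj b d ∧
        (Cfsg.commonDivisorGraph.induce (Cfsg.relCharDegrees N)).Adj d c := by
  have hne : b.1 ≠ c.1 := fun h => hbc (Subtype.ext h)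
  rcases h with h | ⟨z, hz, h1, h2⟩
  · exact Or.inl ⟨hne, h⟩
  by_cases hbz : b.1 = z
  · exact Or.inl ⟨hne, by subst hbz; exact h2⟩
  by_cases hzc : z = c.1
  · exact Or.inl ⟨hne, by subst hzc; exact h1⟩
  exact Or.inr ⟨⟨z, hz⟩, ⟨hbz, h1⟩, ⟨hzc, h2⟩⟩

theorem main [Finite G] (N : Subgroup G) [N.Normal] [Group.IsSolvable N] (hNG : N ≤ commutator G)
    (hdisc : ¬ (Cfsg.commonDivisorGraph.induce (Cfsg.relCharDegrees N)).Preconnected) :
    ∃ a₀ : ↥(Cfsg.relCharDegrees N),
      (∀ b c : ↥(Cfsg.relCharDegrees N),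
        (Cfsg.commonDivisorGraph.induce (Cfsg.relCharDegrees N)).Reachable a₀ b →
        (Cfsg.commonDivisorGraph.induce (Cfsg.relCharDegrees N)).Reachable a₀ c → b ≠ c →
        (Cfsg.commonDivisorGraph.induce (Cfsg.relCharDegrees N)).Adj b c) ∧
      (∀ b c : ↥(Cfsg.relCharDegrees N),
        ¬ (Cfsg.commonDivisorGraph.induce (Cfsg.relCharDegrees N)).Reachable a₀ b →
        ¬ (Cfsg.commonDivisorGraph.induce (Cfsg.relCharDegrees N)).Reachable a₀ c → b ≠ c →
        (Cfsg.commonDivisorGraph.induce (Cfsg.relCharDegrees N)).Adj b c ∨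
          ∃ d : ↥(Cfsg.relCharDegrees N),
            (Cfsg.commonDivisorGraph.induce (Cfsg.relCharDegrees N)).Adj b d ∧
            (Cfsg.commonDivisorGraph.induce (Cfsg.relCharDegrees N)).Adj d c) := by
  haveI := Fintype.ofFinite G
  obtain ⟨a₀, ha₀, hcl, hout⟩ := shape_aux (Nat.card N) N le_rfl hNG hdisc
  refine ⟨⟨a₀, ha₀⟩, fun b c hb hc hbc => ?_, fun b c hb hc hbc => ?_⟩
  · exact ⟨fun h => hbc (Subtype.ext h),
      hcl b.1 c.1 ⟨ha₀, b.2, hb⟩ ⟨ha₀, c.2, hc⟩ fun h => hbc (Subtype.ext h)⟩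
  · exact Near.adj_or_common N hbc
      (hout b.1 b.2 c.1 c.2 (fun h => hb h.2.2) (fun h => hc h.2.2))

end Cfsg.Agent.GenA.RelDegree
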